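import Groth.Agent.H12AlgSp.LimitAtlas
import Groth.Agent.H12AlgSp.SchImage
import Groth.Agent.H12AlgSp.TwoClosed.Pieces
import Groth.Agent.H13AlgSp.AffineLocal
import Groth.Agent.H13AlgSp.Cover

/-!
An algebraic space is the limit of its scheme theoretic images in the stages of a limit.
-/

set_option autoImplicit false
set_option backward.isDefEq.respectTransparency false
set_option linter.style.haveILetI false

universe u

open CategoryTheory CategoryTheory.Limits AlgebraicGeometry Opposite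
open AlgSp Groth.Agent.H13AlgSp Groth.Agent.H13Cartier

attribute [local instance] CategoryTheory.isConnected_of_hasTerminal

namespace Groth.Agent.H12AlgSp.SchImageLimit

variable {S : Scheme.{u}}

/-- A monomorphism all of whose values lift is an isomorphism. -/
theorem isIso_of_mono_of_lifts {F G : Sp S} (f : F ⟶ G) [Mono f]
    (h : ∀ (T : Over S) (y : (yon S).obj T ⟶ G), ∃ l, l ≫ f = y) : IsIso f :=
  isIso_of_mono_of_local_lifts f fun T y => by
    obtain ⟨l, hl⟩ := h T y
    refine ⟨PUnit.{u + 1}, fun _ => T, fun _ => 𝟙 T, ?_, fun _ => ⟨l, by simpa using hl⟩⟩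
    have : Sieve.ofArrows (fun _ : PUnit.{u + 1} => T) (fun _ => 𝟙 T) = ⊤ :=
      Sieve.id_mem_iff_eq_top.1 (Sieve.ofArrows_mk _ _ PUnit.unit)
    rw [this]
    exact GrothendieckTopology.top_mem _ _

/-- The kernel of a quasi-compact morphism to an affine scheme kills its global sections. -/
theorem appTop_eq_zero_of_comap_eq_bot {A U : Scheme.{u}} [IsAffine U] (m : A ⟶ U) {E : Scheme.{u}}
    (w : E ⟶ U) [QuasiCompact w] (h : w.ker.comap m = ⊥) {g : Γ(U, ⊤)} (hg : w.appTop g = 0) :
    m.appTop g = 0 := by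
  obtain ⟨g', rfl⟩ := (Groth.Agent.H14AlgSt.comap_eq_bot_iff_factors w.ker m).1 h
  have h1 : g ∈ w.ker.ideal ⟨⊤, isAffineOpen_top U⟩ := by
    rw [Scheme.Hom.ker_apply]
    exact RingHom.mem_ker.2 hg
  rw [← w.ker.ker_subschemeι, Scheme.Hom.ker_apply, RingHom.mem_ker] at h1
  change (g' ≫ w.ker.subschemeι).appTop g = 0
  rw [Scheme.Hom.comp_appTop, ConcreteCategory.comp_apply]
  change g'.appTop (w.ker.subschemeι.app ⊤ g) = 0
  rw [h1, map_zero]

variable {I : Type u} [SmallCategory I] [IsCofiltered I] {D : I ⥤ Sp S}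
  (hD : ∀ i, IsAlgSpace (D.obj i)) (hDa : ∀ (i j : I) (φ : i ⟶ j), IsAffineMor (D.map φ))
  (hqc : ∀ i, IsQuasiCompactSp (D.obj i)) {c : Cone D} (hc : IsLimit c)
  {X : Sp S} {a : X ⟶ c.pt} {i : I} {W : Sp S} {w : W ⟶ D.obj i} {b : X ⟶ W}
  {DP : Over i ⥤ Sp S} {π₁ : DP ⟶ Over.forget i ⋙ D} {π₂ : DP ⟶ (Functor.const (Over i)).obj W}

include hD hDa hqc hc in
theorem main (hW : IsAlgSpace W) (hw : IsQuasiCompactMor w) (hb : b ≫ w = a ≫ c.π.app i)
    (hci : ∀ (P : Sp S) (fst : P ⟶ c.pt) (snd : P ⟶ W), IsPullback fst snd (c.π.app i) w →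
      ∀ k : X ⟶ P, k ≫ fst = a → k ≫ snd = b → RepWith @IsClosedImmersion k)
    (hDP : ∀ i' : Over i, IsPullback (π₁.app i') (π₂.app i') (D.map i'.hom) w)
    (DX : Over i ⥤ Sp S) (hDX : ∀ i', IsAlgSpace (DX.obj i')) (ε : DX ⟶ DP)
    (ξ : (Functor.const (Over i)).obj X ⟶ DX)
    (hξ : ∀ i' : Over i, ξ.app i' ≫ ε.app i' ≫ π₁.app i' = a ≫ c.π.app i'.left ∧
      ξ.app i' ≫ ε.app i' ≫ π₂.app i' = b)
    (himg : ∀ i' : Over i, IsSchImage (ξ.app i' ≫ ε.app i') (ε.app i')) :
    Nonempty (IsLimit (Cone.mk X ξ)) := by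
  classical
  have hDPalg : ∀ j : Over i, IsAlgSpace (DP.obj j) := fun j =>
    isAlgSpace_of_isPullback (hD i).diag (hD j.left) hW (hDP j)
  -- transition maps
  have n₁ : ∀ {j k : Over i} (φ : j ⟶ k), DP.map φ ≫ π₁.app k = π₁.app j ≫ D.map φ.left :=
    fun φ => π₁.naturality φ
  have n₂ : ∀ {j k : Over i} (φ : j ⟶ k), DP.map φ ≫ π₂.app k = π₂.app j :=
    fun φ => (π₂.naturality φ).trans (Category.comp_id _)
  have hDPa : ∀ (j k : Over i) (φ : j ⟶ k), IsAffineMor (DP.map φ) := fun j k φ => by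
    have sq : IsPullback (π₁.app j) (DP.map φ) (D.map φ.left) (π₁.app k) :=
      IsPullback.of_bot (v₂₂ := D.map k.hom) (v₂₁ := π₂.app k) (h₃₁ := w)
        (by rw [n₂ φ, ← D.map_comp, Over.w φ]; exact hDP j) (n₁ φ).symm (hDP k)
    exact isAffineMor_iff.2 (repWith_of_isPullback sq (isAffineMor_iff.1 (hDa _ _ φ.left)))
  have hqc₀ : IsQuasiCompactSp (DP.obj (Over.mk (𝟙 i))) :=
    hw (hD _) (hqc _) _ _ _ (hDP (Over.mk (𝟙 i))).flip
  -- the limit
  let hc' := (Functor.Initial.isLimitWhiskerEquiv (Over.forget i) c).symm hc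
  let π : ∀ j : Over i, pullback (c.π.app i) w ⟶ DP.obj j := fun j =>
    (hDP j).lift (pullback.fst _ _ ≫ c.π.app j.left) (pullback.snd _ _)
      (by rw [Category.assoc, c.w, pullback.condition])
  have π_fst : ∀ j, π j ≫ π₁.app j = pullback.fst _ _ ≫ c.π.app j.left := fun j => (hDP j).lift_fst _ _ _
  have π_snd : ∀ j, π j ≫ π₂.app j = pullback.snd _ _ := fun j => (hDP j).lift_snd _ _ _
  let cP : Cone DP := { pt := pullback (c.π.app i) w, π :=
    { app := π
      naturality := fun j k φ => by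
        refine (Category.id_comp _).trans ((hDP k).hom_ext ?_ ?_)
        · simp only [Category.assoc, n₁ φ, π_fst, reassoc_of% (π_fst j), c.w]
        · simp only [Category.assoc, n₂ φ, π_snd] } }
  have fac1 : ∀ (s : Cone DP) (j : Over i), s.π.app j ≫ π₂.app j = s.π.app (Over.mk (𝟙 i)) ≫ π₂.app (Over.mk (𝟙 i)) :=
    fun s j => by rw [← s.w (Over.homMk j.hom (by simp) : j ⟶ Over.mk (𝟙 i)), Category.assoc, n₂]
  let sc : Cone DP → Cone (Over.forget i ⋙ D) := fun s => { pt := s.pt, π := s.π ≫ π₁ }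
  have fac0 : ∀ (s : Cone DP) (j : Over i), hc'.lift (sc s) ≫ c.π.app j.left = s.π.app j ≫ π₁.app j :=
    fun s j => hc'.fac (sc s) j
  have hlw : ∀ s : Cone DP, hc'.lift (sc s) ≫ c.π.app i = (s.π.app (Over.mk (𝟙 i)) ≫ π₂.app (Over.mk (𝟙 i))) ≫ w :=
    fun s => by
      rw [Category.assoc, ← (hDP _).w, ← Category.assoc, ← fac0 s]
      simp only [Over.mk_left, Over.mk_hom]
      exact ((congrArg (_ ≫ ·) (D.map_id i)).trans (Category.comp_id _)).symm
  let hcP : IsLimit cP :=
    { lift := fun s => pullback.lift (hc'.lift (sc s)) _ (hlw s)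
      fac := fun s j => (hDP j).hom_ext
        (by simp only [Category.assoc, π_fst, cP, pullback.lift_fst_assoc, fac0])
        (by simp only [Category.assoc, π_snd, cP, pullback.lift_snd, fac1 s j])
      uniq := fun s m hm => by
        apply pullback.hom_ext
        · rw [pullback.lift_fst]
          refine hc'.hom_ext fun j => ?_
          change (m ≫ pullback.fst _ _) ≫ c.π.app j.left = hc'.lift (sc s) ≫ c.π.app j.left
          rw [fac0, Category.assoc, ← π_fst j, ← hm j, Category.assoc]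
        · rw [pullback.lift_snd, ← π_snd (Over.mk (𝟙 i)), ← hm, Category.assoc] }
  -- the comparison map
  let k : X ⟶ pullback (c.π.app i) w := pullback.lift a b hb.symm
  have hkci : RepWith @IsClosedImmersion k :=
    hci _ _ _ (IsPullback.of_hasPullback _ _) k (pullback.lift_fst _ _ _) (pullback.lift_snd _ _ _)
  have hkm : Mono k := mono_of_closedImmersion hkci
  have hεm : ∀ j, Mono (ε.app j) := fun j => mono_of_closedImmersion (himg j).1
  have hk : ∀ j, k ≫ π j = ξ.app j ≫ ε.app j := fun j => (hDP j).hom_ext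
    (by rw [Category.assoc, π_fst, ← Category.assoc, pullback.lift_fst, Category.assoc, (hξ j).1])
    (by rw [Category.assoc, π_snd, pullback.lift_snd, Category.assoc, (hξ j).2])
  -- atlases
  obtain ⟨A⟩ := exists_atlasSystem_of_qc hDPa hcP hDPalg (Over.mk (𝟙 i)) hqc₀
  obtain ⟨E, w', e', sqE⟩ := hkci.rep A.aLim
  have hw' : IsClosedImmersion w'.left := hkci.property A.aLim _ w' sqE
  have : IsAffine E.left := isAffine_of_isAffineHom w'.left
  have sqj : ∀ j, IsPullback e' ((yon S).map (w' ≫ A.cU.π.app j)) (ξ.app j.left ≫ ε.app j.left) (A.a j) :=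
    fun j => by
      rw [Functor.map_comp, ← hk j.left]
      exact sqE.paste_vert (A.sqLim j).flip
  have hcut : ∀ j, CutsOut (ε.app j.left) (A.a j) (w' ≫ A.cU.π.app j).left.ker := fun j =>
    IsBcAtlas.cutsOut (hDPalg _) (A.etale j) (A.surjective j) (a := (sqj j).isoPullback.hom)
      ⟨repWith_of_isIso _, repWith_of_isIso _, (sqj j).isoPullback_hom_snd⟩ (hDX _) (himg j.left)
  let hU : IsLimit ((Over.forget S).mapCone A.cU) := isLimitOfPreserves _ A.isLimit
  -- lifting
  refine ⟨?_⟩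
  have key : ∀ (s : Cone DX), IsIso (pullback.fst (hcP.lift ((Cone.postcompose ε).obj s)) k) := fun s => by
    set t := hcP.lift ((Cone.postcompose ε).obj s) with ht
    have ht' : ∀ j, t ≫ π j = s.π.app j ≫ ε.app j := fun j => hcP.fac _ j
    refine isIso_of_mono_of_lifts _ fun Z z => ?_
    suffices h : ∃ l, l ≫ k = z ≫ t from
      h.elim fun l hl => ⟨pullback.lift z l hl.symm, pullback.lift_fst _ _ _⟩
    obtain ⟨Zc, p, z₀, sqZ⟩ := A.etaleLim.rep (z ≫ t)
    obtain ⟨z₀, rfl⟩ := (yon S).map_surjective z₀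
    have hp : Etale p.left := A.etaleLim.property (z ≫ t) _ p sqZ
    have hps : Surjective p.left := A.surjectiveLim.property (z ≫ t) _ p sqZ
    have hker : RingHom.ker w'.left.appTop.hom ≤ RingHom.ker z₀.left.appTop.hom := fun f hf => by
      have : ∀ j, IsAffine ((A.U ⋙ Over.forget S).obj j) := A.affine
      obtain ⟨j, g₀, hg⟩ := exists_appTop_π_eq_of_isAffine_of_isLimit _ _ hU (f : Γ(A.cU.pt.left, ⊤))
      let g : Γ((A.U.obj j).left, ⊤) := g₀
      have hg' : (A.cU.π.app j).left.appTop g = f := hg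
      have : QuasiCompact (w' ≫ A.cU.π.app j).left := inferInstance
      have h2 : ((w' ≫ A.cU.π.app j).left.ker).comap (z₀ ≫ A.cU.π.app j).left = ⊥ :=
        (factors_iff (hcut j) (z₀ ≫ A.cU.π.app j)).1 ⟨((yon S).map p ≫ z) ≫ s.π.app j.left, by
          rw [Category.assoc, ← ht', Functor.map_comp]
          simp only [Category.assoc]
          rw [(A.sqLim j).w]
          have e := sqZ.w =≫ π j.left
          simp only [Category.assoc] at e
          exact e.symm⟩
      have h3 : (w' ≫ A.cU.π.app j).left.appTop g = 0 := by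
        rw [Over.comp_left, Scheme.Hom.comp_appTop, ConcreteCategory.comp_apply]
        exact (congrArg (fun x => w'.left.appTop x) hg').trans (RingHom.mem_ker.1 hf)
      have h4 := appTop_eq_zero_of_comap_eq_bot _ _ h2 h3
      rw [Over.comp_left, Scheme.Hom.comp_appTop, ConcreteCategory.comp_apply] at h4
      exact RingHom.mem_ker.2 ((congrArg (fun x => z₀.left.appTop x) hg').symm.trans h4)
    obtain ⟨l, hl⟩ := TwoClosed.exists_lift_affine w'.left z₀.left hker
    let L : Zc ⟶ E := Over.homMk l (by rw [← Over.w w', ← Category.assoc, hl, Over.w z₀])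
    have hL : L ≫ w' = z₀ := Over.OverMorphism.ext hl
    exact exists_factor_of_chart ((repWith_yon_map_iff _ _).2 hp) ((repWith_yon_map_iff _ _).2 hps) (z ≫ t)
      ⟨(yon S).map L ≫ e', by rw [Category.assoc, sqE.w, ← Category.assoc, ← Functor.map_comp, hL, sqZ.w]⟩
  refine
    { lift := fun s => have := key s; inv (pullback.fst (hcP.lift ((Cone.postcompose ε).obj s)) k) ≫ pullback.snd _ _
      fac := fun s j => ?_
      uniq := fun s m hm => ?_ }
  · have := key s
    have := hεm j
    change (_ ≫ _) ≫ ξ.app j = s.π.app j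
    rw [← cancel_mono (ε.app j), Category.assoc, Category.assoc, ← hk j, ← Category.assoc (pullback.snd _ _),
      ← pullback.condition, Category.assoc, IsIso.inv_hom_id_assoc]
    exact hcP.fac _ j
  · have := key s
    rw [← cancel_mono k, Category.assoc, ← pullback.condition, IsIso.inv_hom_id_assoc]
    refine hcP.hom_ext fun j => ?_
    rw [hcP.fac, Category.assoc]
    change m ≫ k ≫ π j = s.π.app j ≫ ε.app j
    rw [hk, ← hm j, Category.assoc]

end Groth.Agent.H12AlgSp.SchImageLimit
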